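import Mathlib.RingTheory.Etale.StandardEtale
import Mathlib.RingTheory.LocalRing.ResidueField.Ideal
import Mathlib.FieldTheory.PrimitiveElement
import Mathlib.FieldTheory.IsSepClosed
import Mathlib.FieldTheory.Perfect
import Mathlib.FieldTheory.Finite.Basic
import Mathlib.Algebra.MvPolynomial.Funext

/-!
# Avoiding a hypersurface by points coming from an etale neighbourhood
-/

universe u

open Polynomial

namespace Groth.Agent.EtSmDescent

theorem infinite_separableClosure (k M : Type u) [Field k] [Field M] [Algebra k M] [IsAlgClosed M] :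
    Infinite (separableClosure k M) := by
  classical
  rcases finite_or_infinite k with h | h
  · by_contra hfin
    rw [not_infinite_iff_finite] at hfin
    let K := separableClosure k M
    have : IsSepClosed K := (separableClosure.isSepClosure k M).sep_closed
    let := Fintype.ofFinite K
    have hq : 1 < Fintype.card K := Fintype.one_lt_card
    let P : K[X] := X ^ Fintype.card K - X + 1
    have hdeg : P.natDegree = Fintype.card K := by
      have hP : P = X ^ Fintype.card K + (1 - X) := by simp only [P]; ring
      rw [hP, natDegree_add_eq_left_of_natDegree_lt, natDegree_X_pow]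
      rw [natDegree_X_pow]
      calc (1 - X : K[X]).natDegree ≤ 1 := by compute_degree
        _ < _ := hq
    have hsep : P.Separable := by
      have hd : P.derivative = C (-1) := by
        simp [P, derivative_X_pow]
      rw [separable_def, hd]
      exact isCoprime_one_right.of_isCoprime_of_dvd_right (isUnit_C.2 isUnit_one.neg).dvd
    obtain ⟨x, hx⟩ := IsSepClosed.exists_root P (by
      intro h0
      rw [natDegree_eq_of_degree_eq_some (n := 0) h0] at hdeg
      omega) hsep
    simp [P, FiniteField.pow_card] at hx
  · exact Infinite.of_injective (algebraMap k (separableClosure k M)) (RingHom.injective _)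

/-- a monic polynomial over a residue field comes from a localisation -/
theorem exists_lift_away {R k : Type u} [CommRing R] [Field k] [Algebra R k] {p : Ideal R}
    [Algebra (R ⧸ p) k] [IsScalarTower R (R ⧸ p) k] [IsFractionRing (R ⧸ p) k] (t : Finset k) :
    ∃ c : R, algebraMap R k c ≠ 0 ∧ ∀ x ∈ t, ∃ a : R, algebraMap R k a = algebraMap R k c * x := by
  obtain ⟨b, hb⟩ := IsLocalization.exist_integer_multiples_of_finset (nonZeroDivisors (R ⧸ p)) t
  obtain ⟨c, hc⟩ := Ideal.Quotient.mk_surjective (b : R ⧸ p)
  have hc' : algebraMap R k c = algebraMap (R ⧸ p) k b := by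
    rw [IsScalarTower.algebraMap_apply R (R ⧸ p) k, ← hc]; rfl
  refine ⟨c, ?_, fun x hx => ?_⟩
  · rw [hc']
    exact IsUnit.ne_zero (IsLocalization.map_units k b)
  · obtain ⟨a', ha'⟩ := hb x hx
    obtain ⟨a, rfl⟩ := Ideal.Quotient.mk_surjective a'
    refine ⟨a, ?_⟩
    rw [hc', ← Algebra.smul_def, IsScalarTower.algebraMap_apply R (R ⧸ p) k]
    exact ha'

/-- Finitely many elements separable over the residue field of `ker φ` come from an etale algebra. -/
theorem exists_etale_lift {R k M : Type u} [CommRing R] [Field k] [Field M] [Algebra R k] [Algebra R M]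
    [Algebra k M] [IsScalarTower R k M] {p : Ideal R} [Algebra (R ⧸ p) k] [IsScalarTower R (R ⧸ p) k]
    [IsFractionRing (R ⧸ p) k] {ι : Type*} [Finite ι] (s : ι → M) (hs : ∀ i, IsSeparable k (s i)) :
    ∃ (R' : Type u) (_ : CommRing R') (_ : Algebra R R') (_ : Algebra.Etale R R')
      (φ : R' →+* M) (r : ι → R'), φ.comp (algebraMap R R') = algebraMap R M ∧ ∀ i, φ (r i) = s i := by
  classical
  have : Fintype ι := Fintype.ofFinite ι
  let K : IntermediateField k M := IntermediateField.adjoin k (Set.range s)
  have hKsep : Algebra.IsSeparable k K := by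
    rw [IntermediateField.isSeparable_adjoin_iff_isSeparable]
    rintro _ ⟨i, rfl⟩
    exact hs i
  have : FiniteDimensional k K := by
    refine IntermediateField.finiteDimensional_adjoin ?_
    rintro _ ⟨i, rfl⟩
    exact (hs i).isIntegral
  obtain ⟨θ, hθ⟩ := Field.exists_primitive_element k K
  have hθs : IsSeparable k θ := Algebra.IsSeparable.isSeparable k θ
  have hmem : ∀ i, ∃ P : k[X], (aeval θ P : K) = ⟨s i, IntermediateField.subset_adjoin _ _ ⟨i, rfl⟩⟩ := by
    intro i
    have : (⟨s i, IntermediateField.subset_adjoin _ _ ⟨i, rfl⟩⟩ : K) ∈ Algebra.adjoin k ({θ} : Set K) := by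
      rw [← IntermediateField.adjoin_simple_toSubalgebra_of_isAlgebraic (hθs.isIntegral.isAlgebraic), hθ]
      exact IntermediateField.mem_top
    exact Algebra.adjoin_mem_exists_aeval k θ this
  choose P hP using hmem
  let t : Finset k := (minpoly k θ).coeffs ∪ Finset.univ.biUnion fun i => (P i).coeffs
  obtain ⟨c, hc0, hc⟩ := exists_lift_away (R := R) (k := k) (p := p) t
  let R₁ := Localization.Away c
  let g : R₁ →+* k := IsLocalization.Away.lift c (g := algebraMap R k) hc0.isUnit
  have hg : ∀ a, g (algebraMap R R₁ a) = algebraMap R k a := fun a => IsLocalization.Away.lift_eq c _ a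
  have hlift : ∀ Q : k[X], (∀ x ∈ Q.coeffs, x ∈ t) → Q ∈ Polynomial.lifts g := fun Q hQ => by
    rw [lifts_iff_coeff_lifts]
    intro j
    by_cases hj : Q.coeff j = 0
    · exact ⟨0, by rw [hj, map_zero]⟩
    · obtain ⟨a, ha⟩ := hc _ (hQ _ (coeff_mem_coeffs hj))
      obtain ⟨u, hu⟩ := IsLocalization.Away.algebraMap_isUnit (S := R₁) c
      refine ⟨↑u⁻¹ * algebraMap R R₁ a, ?_⟩
      apply mul_left_cancel₀ hc0
      rw [← hg c, ← map_mul, ← mul_assoc, ← hu, Units.mul_inv, one_mul, hu, hg, hg, ha]
  obtain ⟨q, hq, -, hqm⟩ := lifts_and_degree_eq_and_monic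
    (hlift (minpoly k θ) fun x hx => Finset.mem_union_left _ hx) (minpoly.monic hθs.isIntegral)
  have hPl : ∀ i, ∃ Q : R₁[X], Q.map g = P i := fun i =>
    (mem_lifts _).1 (hlift (P i) fun x hx =>
      Finset.mem_union_right _ (Finset.mem_biUnion.2 ⟨i, Finset.mem_univ _, hx⟩))
  choose Q hQ using hPl
  let pair : StandardEtalePair R₁ := ⟨q, hqm, q.derivative, ⟨1, 0, 1, by ring⟩⟩
  let : Algebra R₁ K := ((algebraMap k K).comp g).toAlgebra
  have key : ∀ F : R₁[X], aeval θ F = aeval θ (F.map g) := fun F => by
    simp only [aeval_def, eval₂_map]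
    rfl
  have hmap : pair.HasMap θ := by
    refine ⟨?_, ?_⟩
    · rw [key, hq]
      exact minpoly.aeval k θ
    · rw [isUnit_iff_ne_zero, key, ← derivative_map, hq]
      exact hθs.aeval_derivative_ne_zero (minpoly.aeval k θ)
  let ψ : pair.Ring →ₐ[R₁] K := pair.lift θ hmap
  let : Algebra R pair.Ring := ((algebraMap R₁ pair.Ring).comp (algebraMap R R₁)).toAlgebra
  have : IsScalarTower R R₁ pair.Ring := .of_algebraMap_eq fun _ => rfl
  have : Algebra.Etale R R₁ := .of_isLocalizationAway c
  refine ⟨pair.Ring, inferInstance, inferInstance, Algebra.Etale.comp R R₁ pair.Ring,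
    (algebraMap K M).comp ψ.toRingHom, fun i => aeval pair.X (Q i), ?_, fun i => ?_⟩
  · ext a
    change algebraMap K M (ψ (algebraMap R₁ pair.Ring (algebraMap R R₁ a))) = _
    rw [AlgHom.commutes]
    change algebraMap K M (algebraMap k K (g (algebraMap R R₁ a))) = _
    rw [hg, ← IsScalarTower.algebraMap_apply k K M, ← IsScalarTower.algebraMap_apply R k M]
  · change algebraMap K M (ψ (aeval pair.X (Q i))) = s i
    rw [← aeval_algHom_apply, StandardEtalePair.lift_X, key, hQ, hP]
    rfl

open MvPolynomial in
/-- A nonzero polynomial over an algebraically closed `R`-field does not vanish at some translate of a point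
by a point of an etale `R`-algebra. -/
theorem exists_etale_translate {R M : Type u} [CommRing R] [Field M] [Algebra R M] [IsAlgClosed M]
    {ι : Type*} [Finite ι] (a : ι → M) {G : MvPolynomial ι M} (hG : G ≠ 0) :
    ∃ (R' : Type u) (_ : CommRing R') (_ : Algebra R R') (_ : Algebra.Etale R R')
      (φ : R' →+* M) (r : ι → R'), φ.comp (algebraMap R R') = algebraMap R M ∧
      MvPolynomial.eval (fun i => a i + φ (r i)) G ≠ 0 := by
  let p : Ideal R := RingHom.ker (algebraMap R M)
  have : p.IsPrime := RingHom.ker_isPrime _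
  let k := p.ResidueField
  let g : k →+* M := Ideal.ResidueField.lift p (algebraMap R M) le_rfl (fun x hx => by
    change IsUnit (algebraMap R M x)
    rw [isUnit_iff_ne_zero]
    exact hx)
  let : Algebra k M := g.toAlgebra
  have : IsScalarTower R k M := .of_algebraMap_eq fun x => (Ideal.ResidueField.lift_algebraMap ..).symm
  let ks : Set M := {x | IsSeparable k x}
  have hinf : ks.Infinite := by
    have := infinite_separableClosure k M
    exact (Set.infinite_range_of_injective
      (f := fun x : separableClosure k M => (x : M)) Subtype.val_injective).mono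
      (by rintro _ ⟨x, rfl⟩; exact mem_separableClosure_iff.1 x.2)
  obtain ⟨t, ht, hGt⟩ : ∃ t ∈ Set.pi .univ (fun i => (a i + ·) '' ks), eval t G ≠ 0 := by
    by_contra h
    simp only [not_exists, not_and, not_not] at h
    exact hG (funext_set _ (fun i => hinf.image (add_right_injective (a i)).injOn)
      fun x hx => by rw [h x hx, map_zero])
  choose s hs hst using fun i => ht i trivial
  obtain ⟨R', _, _, _, φ, r, h1, h2⟩ := exists_etale_lift (R := R) (k := k) (p := p) s hs
  refine ⟨R', ‹_›, ‹_›, ‹_›, φ, r, h1, ?_⟩
  rwa [show (fun i => a i + φ (r i)) = t from funext fun i => by rw [h2]; exact hst i]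

end Groth.Agent.EtSmDescent
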