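import Groth.Agent.EtSmDescent.Basic
import Groth.Agent.EtSmDescent.Lift
import Mathlib.RingTheory.RingHom.StandardSmooth
import Mathlib.RingTheory.TensorProduct.MvPolynomial
import Mathlib.AlgebraicGeometry.ResidueField
import Mathlib.AlgebraicGeometry.Restrict

/-!
# Properties etale local on the source and smooth local on the base are etale-smooth local
-/

set_option backward.isDefEq.respectTransparency false

universe u

open CategoryTheory CategoryTheory.Limits AlgebraicGeometry MvPolynomial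

namespace Groth.Agent.EtSmDescent

/-- the projection of affine space over an affine scheme -/
noncomputable abbrev affProj (R : Type u) [CommRing R] (n : ℕ) :
    Spec (CommRingCat.of (MvPolynomial (Fin n) R)) ⟶ Spec (CommRingCat.of R) :=
  Spec.map (CommRingCat.ofHom (C : R →+* MvPolynomial (Fin n) R))

theorem smooth_affProj (R : Type u) [CommRing R] (n : ℕ) : Smooth (affProj R n) := by
  rw [HasRingHomProperty.Spec_iff (P := @Smooth)]
  rw [CommRingCat.hom_ofHom, ← MvPolynomial.algebraMap_eq]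
  exact RingHom.smooth_algebraMap.2 ⟨inferInstance, inferInstance⟩

theorem surjective_affProj (R : Type u) [CommRing R] (n : ℕ) : Surjective (affProj R n) := by
  refine ⟨fun y => ⟨Spec.map (CommRingCat.ofHom (eval (fun _ => 0))) y, ?_⟩⟩
  rw [← Scheme.Hom.comp_apply, ← Spec.map_comp]
  rw [show CommRingCat.ofHom (C : R →+* MvPolynomial (Fin n) R) ≫ CommRingCat.ofHom (eval fun _ => 0) = 𝟙 _ by
    ext x; exact eval_C x, Spec.map_id]
  rfl

attribute [local instance] MvPolynomial.algebraMvPolynomial in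
theorem etale_map_mvPolynomial (R R' : Type u) [CommRing R] [CommRing R'] [Algebra R R'] [Algebra.Etale R R']
    (n : ℕ) : (MvPolynomial.map (algebraMap R R') : MvPolynomial (Fin n) R →+* _).Etale :=
  RingHom.etale_algebraMap.2 (Algebra.Etale.of_equiv
    (Algebra.IsPushout.equiv R (MvPolynomial (Fin n) R) R' (MvPolynomial (Fin n) R')))

/-- translation of affine space by a point -/
noncomputable def translate {R : Type u} [CommRing R] {n : ℕ} (r : Fin n → R) :
    MvPolynomial (Fin n) R →ₐ[R] MvPolynomial (Fin n) R := aeval fun i => X i + C (r i)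

theorem translate_X {R : Type u} [CommRing R] {n : ℕ} (r : Fin n → R) (i : Fin n) :
    translate r (X i) = X i + C (r i) := aeval_X _ _

theorem bijective_translate {R : Type u} [CommRing R] {n : ℕ} (r : Fin n → R) :
    Function.Bijective (translate r) :=
  (AlgEquiv.ofAlgHom (translate r) (translate fun i => -r i)
    (by ext i; simp [translate]) (by ext i; simp [translate])).bijective

variable {S : Scheme.{u}} {Q : ∀ {X Y : Scheme.{u}}, (Y ⟶ S) → (X ⟶ Y) → Prop} (hQ : Hyp Q)
include hQ

/-- Descent along affine space from an open subscheme meeting all fibres. -/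
theorem descend_affineSpace {R : Type u} [CommRing R] {n : ℕ} {sR : Spec (CommRingCat.of R) ⟶ S}
    {X W : Scheme.{u}} {f : X ⟶ Spec (CommRingCat.of R)} {p : W ⟶ X}
    {q : W ⟶ Spec (CommRingCat.of (MvPolynomial (Fin n) R))} (sq : IsPullback p q f (affProj R n))
    (Ω : W.Opens) (hsurj : ∀ x, ∃ ω ∈ Ω, p ω = x) (h : Q (affProj R n ≫ sR) (Ω.ι ≫ q)) : Q sR f := by
  have := smooth_affProj R n
  have := surjective_affProj R n
  refine hQ.of_surjective (g := affProj R n) sq (hQ.of_local_source fun w => ?_)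
  obtain ⟨ω, hω, hpω⟩ := hsurj (p w)
  obtain ⟨t, -, -⟩ := Scheme.Pullback.exists_preimage_pullback
    (f := W.fromSpecResidueField w ≫ p) (g := W.fromSpecResidueField ω ≫ p)
    (IsLocalRing.closedPoint (W.residueField w)) (IsLocalRing.closedPoint (W.residueField ω)) (by
      simp only [Scheme.Hom.comp_apply, Scheme.fromSpecResidueField_apply, hpω])
  let κ : Type u := (pullback (W.fromSpecResidueField w ≫ p) (W.fromSpecResidueField ω ≫ p)).residueField t
  let : Field κ := inferInstanceAs (Field ((pullback (W.fromSpecResidueField w ≫ p) (W.fromSpecResidueField ω ≫ p)).residueField t))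
  let M := AlgebraicClosure κ
  let m₀ : Spec (CommRingCat.of M) ⟶ pullback (W.fromSpecResidueField w ≫ p) (W.fromSpecResidueField ω ≫ p) :=
    Spec.map (CommRingCat.ofHom (algebraMap κ M)) ≫ Scheme.fromSpecResidueField _ t
  let pw : Spec (CommRingCat.of M) ⟶ W := m₀ ≫ pullback.fst _ _ ≫ W.fromSpecResidueField w
  let po : Spec (CommRingCat.of M) ⟶ W := m₀ ≫ pullback.snd _ _ ≫ W.fromSpecResidueField ω
  let pt : Spec (CommRingCat.of M) := IsLocalRing.closedPoint M
  have hpw : pw pt = w := by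
    change W.fromSpecResidueField w (pullback.fst (W.fromSpecResidueField w ≫ p) _ (m₀ pt)) = w
    exact Scheme.fromSpecResidueField_apply _ _
  have hpo : po pt = ω := by
    change W.fromSpecResidueField ω (pullback.snd (W.fromSpecResidueField w ≫ p) _ (m₀ pt)) = ω
    exact Scheme.fromSpecResidueField_apply _ _
  have heq : pw ≫ p = po ≫ p := by
    simp only [pw, po, Category.assoc]
    rw [pullback.condition]
  clear_value pw po
  obtain ⟨φ, hφ⟩ := Spec.map_surjective ((pw ≫ p) ≫ f)
  obtain ⟨α, hα⟩ := Spec.map_surjective (pw ≫ q)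
  obtain ⟨β, hβ⟩ := Spec.map_surjective (po ≫ q)
  have hαC : CommRingCat.ofHom C ≫ α = φ := Spec.map_injective (by
    rw [Spec.map_comp, hα, hφ, Category.assoc, Category.assoc, ← sq.w])
  have hβC : CommRingCat.ofHom C ≫ β = φ := Spec.map_injective (by
    rw [Spec.map_comp, hβ, hφ, heq, Category.assoc, Category.assoc, ← sq.w])
  let : Algebra R M := φ.hom.toAlgebra
  let Cm : Spec (CommRingCat.of (MvPolynomial (Fin n) M)) ⟶ Spec (CommRingCat.of M) := affProj M n
  let i : Spec (CommRingCat.of (MvPolynomial (Fin n) M)) ⟶ W :=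
    sq.lift (Cm ≫ pw ≫ p) (Spec.map (CommRingCat.ofHom (MvPolynomial.map φ.hom))) (by
      rw [Category.assoc, ← hφ, ← Spec.map_comp, ← Spec.map_comp]
      congr 1
      refine CommRingCat.hom_ext (RingHom.ext fun x => ?_)
      exact (MvPolynomial.map_C φ.hom x).symm)
  have hev : ∀ (c : Fin n → M), Spec.map (CommRingCat.ofHom (eval c)) ≫ Cm = 𝟙 _ := fun c => by
    rw [← Spec.map_comp, show CommRingCat.ofHom (C : M →+* MvPolynomial (Fin n) M) ≫ CommRingCat.ofHom (eval c) =
      𝟙 _ by ext x; exact eval_C x, Spec.map_id]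
  let b : Fin n → M := fun j => β.hom (MvPolynomial.X j)
  have hib : Spec.map (CommRingCat.ofHom (eval b)) ≫ i = po := by
    apply sq.hom_ext
    · rw [Category.assoc, sq.lift_fst, reassoc_of% hev b, heq]
    · rw [Category.assoc, sq.lift_snd, ← hβ, ← Spec.map_comp]
      congr 1
      refine CommRingCat.hom_ext (MvPolynomial.ringHom_ext (fun x => ?_) fun j => ?_)
      · change eval b (MvPolynomial.map φ.hom (C x)) = β.hom (C x)
        rw [map_C, eval_C, ← hβC]
        rfl
      · change eval b (MvPolynomial.map φ.hom (MvPolynomial.X j)) = β.hom (MvPolynomial.X j)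
        rw [map_X, eval_X]
  let qb : PrimeSpectrum (MvPolynomial (Fin n) M) := Spec.map (CommRingCat.ofHom (eval b)) pt
  let O : Set (PrimeSpectrum (MvPolynomial (Fin n) M)) := (i ⁻¹ᵁ Ω).carrier
  have hO : IsOpen O := (i ⁻¹ᵁ Ω).is_open'
  have hqb : qb ∈ O := by
    change i (Spec.map (CommRingCat.ofHom (eval b)) pt) ∈ Ω
    rw [← Scheme.Hom.comp_apply, hib, hpo]
    exact hω
  obtain ⟨_, ⟨G, rfl⟩, hG, hGsub⟩ :=
    PrimeSpectrum.isTopologicalBasis_basic_opens.exists_subset_of_mem_open hqb hO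
  have hG0 : G ≠ 0 := by
    rintro rfl
    exact hG (Ideal.zero_mem _)
  let a : Fin n → M := fun j => α.hom (MvPolynomial.X j)
  obtain ⟨R', _, _, _, φ', r, hφ', hGr⟩ := exists_etale_translate (R := R) a hG0
  let θr : MvPolynomial (Fin n) R →+* MvPolynomial (Fin n) R' := MvPolynomial.map (algebraMap R R')
  let μr : MvPolynomial (Fin n) R →+* MvPolynomial (Fin n) R' := (translate r).toRingHom.comp θr
  let θ := Spec.map (CommRingCat.ofHom θr)
  let μ := Spec.map (CommRingCat.ofHom μr)
  have hθe : θr.Etale := etale_map_mvPolynomial R R' n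
  have : Etale θ := by
    rw [HasRingHomProperty.Spec_iff (P := @Etale)]
    exact hθe
  have : Etale μ := by
    rw [HasRingHomProperty.Spec_iff (P := @Etale)]
    exact RingHom.Etale.stableUnderComposition _ _ hθe (RingHom.Etale.of_bijective (bijective_translate r))
  have hμθ : μ ≫ affProj R n = θ ≫ affProj R n := by
    simp only [μ, θ, affProj, ← Spec.map_comp]
    congr 1
    refine CommRingCat.hom_ext (RingHom.ext fun x => ?_)
    change translate r (θr (C x)) = θr (C x)
    simp only [θr, map_C, translate, aeval_C]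
    rfl
  let m : pullback q θ ⟶ W := sq.lift (pullback.fst q θ ≫ p) (pullback.snd q θ ≫ μ) (by
    rw [Category.assoc, Category.assoc, hμθ, sq.w, pullback.condition_assoc])
  have sqm : IsPullback m (pullback.snd q θ) q μ := by
    refine IsPullback.of_right ?_ (sq.lift_snd _ _ _) sq
    rw [sq.lift_fst, hμθ]
    exact (IsPullback.of_hasPullback q θ).paste_horiz sq
  have sqΩ : IsPullback (m ∣_ Ω) ((m ⁻¹ᵁ Ω).ι ≫ pullback.snd q θ) (Ω.ι ≫ q) μ :=
    (isPullback_morphismRestrict m Ω).paste_vert sqm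
  refine ⟨_, (m ⁻¹ᵁ Ω).ι ≫ pullback.fst q θ, inferInstance, ?_, ?_⟩
  · let w' : Spec (CommRingCat.of M) ⟶ pullback q θ :=
      pullback.lift pw (Spec.map (CommRingCat.ofHom (eval₂Hom φ' a))) (by
        rw [← hα, ← Spec.map_comp]
        congr 1
        refine CommRingCat.hom_ext (MvPolynomial.ringHom_ext (fun x => ?_) fun j => ?_)
        · change α.hom (C x) = eval₂Hom φ' a (MvPolynomial.map (algebraMap R R') (C x))
          rw [map_C, eval₂Hom_C]
          refine Eq.trans ?_ (DFunLike.congr_fun hφ' x).symm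
          change _ = φ.hom x
          rw [← hαC]
          rfl
        · change α.hom (MvPolynomial.X j) = eval₂Hom φ' a (MvPolynomial.map (algebraMap R R') (MvPolynomial.X j))
          rw [map_X, eval₂Hom_X'])
    have hw'm : w' ≫ m = Spec.map (CommRingCat.ofHom (eval fun j => a j + φ' (r j))) ≫ i := by
      apply sq.hom_ext
      · simp only [m, i, w', Category.assoc, sq.lift_fst, pullback.lift_fst_assoc, reassoc_of% hev]
      · rw [Category.assoc, sq.lift_snd, pullback.lift_snd_assoc, Category.assoc, sq.lift_snd]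
        simp only [μ, ← Spec.map_comp]
        congr 1
        refine CommRingCat.hom_ext (MvPolynomial.ringHom_ext (fun x => ?_) fun j => ?_)
        · change eval₂Hom φ' a (translate r (θr (C x))) =
            eval (fun j => a j + φ' (r j)) (MvPolynomial.map φ.hom (C x))
          simp only [θr, map_C, translate, aeval_C, eval_C]
          rw [MvPolynomial.algebraMap_eq, eval₂Hom_C, ← RingHom.comp_apply, hφ']
          rfl
        · change eval₂Hom φ' a (translate r (θr (MvPolynomial.X j))) =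
            eval (fun j => a j + φ' (r j)) (MvPolynomial.map φ.hom (MvPolynomial.X j))
          simp only [θr, map_X, translate_X, map_add, eval₂Hom_X', eval₂Hom_C, eval_X]
    have hmem : w' pt ∈ m ⁻¹ᵁ Ω := by
      change m (w' pt) ∈ Ω
      rw [← Scheme.Hom.comp_apply, hw'm, Scheme.Hom.comp_apply]
      apply hGsub
      change G ∉ Ideal.comap (eval fun j => a j + φ' (r j)) (IsLocalRing.maximalIdeal M)
      rw [Ideal.mem_comap, IsLocalRing.mem_maximalIdeal, mem_nonunits_iff, not_not, isUnit_iff_ne_zero]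
      exact hGr
    refine ⟨⟨w' pt, hmem⟩, ?_⟩
    rw [Scheme.Hom.comp_apply]
    change pullback.fst q θ (w' pt) = w
    rw [← Scheme.Hom.comp_apply, pullback.lift_fst, hpw]
  · rw [Category.assoc, pullback.condition, ← Category.assoc]
    refine hQ.postcomp_etale _ θ ?_
    rw [← reassoc_of% hμθ]
    exact hQ.baseChange h sqΩ

/-- The key step: from an etale-smooth chart through a point to an etale chart through it. -/
theorem exists_etale_of_etale_smooth {X Y V W U : Scheme.{u}} {sY : Y ⟶ S} {f : X ⟶ Y} {b : V ⟶ Y}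
    [Smooth b] {p : W ⟶ X} {q : W ⟶ V} (sq : IsPullback p q f b) {e : U ⟶ W} [Etale e]
    (h : Q (b ≫ sY) (e ≫ q)) (u : U) :
    ∃ (X' : Scheme.{u}) (g : X' ⟶ X), Etale g ∧ p (e u) ∈ Set.range g ∧ Q sY (g ≫ f) := by
  obtain ⟨Y₀, hY₀, V₀, hV₀, hv, eV, hstd⟩ := Smooth.exists_isStandardSmooth b (q (e u))
  obtain ⟨n, g, hgC, hg⟩ := hstd.exists_etale_mvPolynomial
  let A := CommRingCat.of (MvPolynomial (Fin n) Γ(Y, Y₀))
  let η : Spec Γ(V, V₀) ⟶ Spec A := Spec.map (CommRingCat.ofHom g)
  have : Etale η := by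
    rw [HasRingHomProperty.Spec_iff (P := @Etale)]
    exact hg
  have := smooth_affProj Γ(Y, Y₀) n
  let π : Spec A ⟶ Spec Γ(Y, Y₀) := affProj Γ(Y, Y₀) n
  have hη : η ≫ π ≫ hY₀.fromSpec = hV₀.fromSpec ≫ b := by
    rw [← hY₀.SpecMap_appLE_fromSpec b hV₀ eV, ← Category.assoc, ← Spec.map_comp]
    congr 1
    exact congrArg Spec.map (CommRingCat.hom_ext hgC)
  let iV := hV₀.fromSpec
  let iY := hY₀.fromSpec
  let h₀ := pullback.snd (e ≫ q) iV
  let pU := pullback.fst (e ≫ q) iV
  have sqU := IsPullback.of_hasPullback (e ≫ q) iV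
  obtain ⟨u₀, hu₀, -⟩ := Scheme.Pullback.exists_preimage_pullback (f := e ≫ q) (g := iV) u
    (hV₀.primeIdealOf ⟨_, hv⟩) (by rw [Scheme.Hom.comp_apply, hV₀.fromSpec_primeIdealOf])
  have hA : Q (π ≫ iY ≫ sY) (h₀ ≫ η) := by
    refine hQ.postcomp_etale _ η ?_
    have := hQ.baseChange h sqU
    rwa [← reassoc_of% hη] at this
  -- the chart of `X`
  let j := pullback.fst f iY
  let f₀ := pullback.snd f iY
  let pA := pullback.fst f₀ π
  let qA := pullback.snd f₀ π
  let p' := pullback.fst qA η
  let q' := pullback.snd qA η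
  have sqP : IsPullback ((p' ≫ pA) ≫ j) q' f (iV ≫ b) := by
    have := (((IsPullback.of_hasPullback qA η).flip.paste_vert (IsPullback.of_hasPullback f₀ π).flip).paste_vert
      (IsPullback.of_hasPullback f iY).flip).flip
    simpa only [Category.assoc, hη, p', q', pA, j, iV, iY, π] using this
  let m : pullback qA η ⟶ W := sq.lift ((p' ≫ pA) ≫ j) (q' ≫ iV) (by rw [Category.assoc]; exact sqP.w)
  have sqm : IsPullback m q' q iV := by
    refine IsPullback.of_right ?_ (sq.lift_snd _ _ _) sq
    rw [sq.lift_fst]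
    exact sqP
  let l : pullback (e ≫ q) iV ⟶ pullback qA η := sqm.lift (pU ≫ e) h₀ (by rw [Category.assoc]; exact sqU.w)
  have : IsOpenImmersion m := MorphismProperty.of_isPullback (P := @IsOpenImmersion) sqm.flip inferInstance
  have : Etale l := MorphismProperty.of_postcomp (W := @Etale) (W' := @Etale) l m inferInstance
    (by rw [sqm.lift_fst]; infer_instance)
  let k := l ≫ p'
  have hk : k ≫ qA = h₀ ≫ η := by
    simp only [k, Category.assoc, p', q', pullback.condition]
    rw [sqm.lift_snd_assoc]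
  have hk' : k ≫ pA ≫ j = pU ≫ e ≫ p := by
    calc k ≫ pA ≫ j = l ≫ ((p' ≫ pA) ≫ j) := by simp only [k, Category.assoc]
      _ = (l ≫ m) ≫ p := by simp only [m, Category.assoc, sq.lift_fst]
      _ = _ := by rw [sqm.lift_fst, Category.assoc]
  let Ω : (pullback f₀ π).Opens := ⟨Set.range k, k.isOpenMap.isOpen_range⟩
  have hkΩ : Set.range k ⊆ Set.range Ω.ι := by rw [Scheme.Opens.range_ι]; rfl
  obtain ⟨k₀, hk₀⟩ : ∃ k₀ : pullback (e ≫ q) iV ⟶ Ω, k₀ ≫ Ω.ι = k := ⟨_, IsOpenImmersion.lift_fac Ω.ι k hkΩ⟩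
  have : Etale k₀ := MorphismProperty.of_postcomp (W := @Etale) (W' := @Etale) k₀ Ω.ι inferInstance
    (by rw [hk₀]; infer_instance)
  have hΩ : Q (π ≫ iY ≫ sY) (Ω.ι ≫ qA) := by
    refine hQ.of_local_source fun z => ⟨_, k₀, ‹_›, ?_, ?_⟩
    · obtain ⟨z', hz'⟩ := z.2
      refine ⟨z', Ω.ι.isOpenEmbedding.injective ?_⟩
      rw [← Scheme.Hom.comp_apply, hk₀]
      exact hz'
    · rw [← Category.assoc k₀, hk₀, hk]
      exact hA
  let X₁ : (pullback f iY).Opens := ⟨pA '' (Ω : Set (pullback f₀ π : Scheme.{u})), pA.isOpenMap _ Ω.isOpen⟩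
  have sqW := ((isPullback_morphismRestrict pA X₁).paste_vert (IsPullback.of_hasPullback f₀ π))
  have key : Q (iY ≫ sY) (X₁.ι ≫ f₀) := by
    refine descend_affineSpace hQ sqW ((pA ⁻¹ᵁ X₁).ι ⁻¹ᵁ Ω) (fun x => ?_) ?_
    · obtain ⟨ω, hω, hωx⟩ := x.2
      refine ⟨⟨ω, ⟨ω, hω, rfl⟩⟩, hω, X₁.ι.isOpenEmbedding.injective ?_⟩
      rw [← Scheme.Hom.comp_apply, morphismRestrict_ι]
      exact hωx
    · have := hQ.precomp hΩ ((pA ⁻¹ᵁ X₁).ι ∣_ Ω)
      simp only [morphismRestrict_ι_assoc] at this
      exact this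
  refine ⟨X₁.toScheme, X₁.ι ≫ j, inferInstance, ⟨⟨pA (k u₀), _, ⟨u₀, rfl⟩, rfl⟩, ?_⟩, ?_⟩
  · rw [Scheme.Hom.comp_apply]
    change j (pA (k u₀)) = p (e u)
    rw [← Scheme.Hom.comp_apply, ← Scheme.Hom.comp_apply, hk', Scheme.Hom.comp_apply, Scheme.Hom.comp_apply]
    exact congrArg (fun z => p (e z)) hu₀
  · have := hQ.openImm sY (X₁.ι ≫ f₀) iY inferInstance key
    rwa [Category.assoc, ← pullback.condition, ← Category.assoc] at this

end Groth.Agent.EtSmDescent
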