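import Groth.Agent.EtSmDescent.Smooth
import Groth.Agent.EtSmLocalST.Basic
import Groth.Agent.AlgSpLib.Points

/-!
# Etale-smooth locality of properties local on source and base
-/

set_option backward.isDefEq.respectTransparency false

universe u

open CategoryTheory CategoryTheory.Limits AlgebraicGeometry Opposite

namespace Groth.Agent.EtSmDescent

open _root_.AlgSp Groth.Agent.AlgSpLib Groth.Agent.LargestOpen

variable {S : Scheme.{u}}

/-- the property of morphisms of schemes over `S` -/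
def schProp (P : MorphismProperty (Sp S)) {X Y : Scheme.{u}} (sY : Y ⟶ S) (f : X ⟶ Y) : Prop :=
  P ((yon S).map (Over.homMk f rfl : Over.mk (f ≫ sY) ⟶ Over.mk sY))

theorem schProp_iff (P : MorphismProperty (Sp S)) {X Y : Scheme.{u}} (sY : Y ⟶ S) (f : X ⟶ Y) (sX : X ⟶ S)
    (h : f ≫ sY = sX) :
    schProp P sY f ↔ P ((yon S).map (Over.homMk f h : Over.mk sX ⟶ Over.mk sY)) := by
  subst h
  rfl

theorem schProp_over (P : MorphismProperty (Sp S)) {U V : Over S} (φ : U ⟶ V) :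
    schProp P V.hom φ.left ↔ P ((yon S).map φ) :=
  schProp_iff P V.hom φ.left U.hom (Over.w φ)

theorem locP_smooth_yon {U V : Over S} (g : U ⟶ V) (h : Smooth g.left) :
    LocP @Smooth ((yon S).map g) :=
  (locP_iff_repWith etST_smooth (IsAlgSpace.yon_obj V) ((repWith_yon_iff _).2 h).1).2 ((repWith_yon_iff _).2 h)

theorem mem_range_map_yon {U V : Over S} (g : U ⟶ V) {t : ↥U.left} {y : Points ((yon S).obj V)}
    (h : Points.ofScheme V (g.left t) = y) : y ∈ Set.range (Points.map ((yon S).map g)) :=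
  ⟨Points.ofPt (𝟙 _) t, by rw [Points.map_ofPt, Category.id_comp, ofScheme_map, h]⟩

variable {P : MorphismProperty (Sp S)} (h1 : IsLocalOnSource (IsEtCover (S := S)) P)
  (h2 : IsLocalOnBase (IsSmCover (S := S)) P)
  (h3 : ∀ ⦃X Y Z : Space S⦄ (f : X ⟶ Y) (j : Y ⟶ Z), P f.hom → RepWith @IsOpenImmersion j.hom → P (f ≫ j).hom)

include h1 h2 h3 in
theorem hyp_schProp : Hyp (schProp P) where
  src {X Y} sY f ι Xi g hg hcov := by
    have key := h1 (fun i => (yon S).obj (Over.mk ((g i ≫ f) ≫ sY)))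
      (fun i => (yon S).map (Over.homMk (g i) (by simp) : Over.mk ((g i ≫ f) ≫ sY) ⟶ Over.mk (f ≫ sY)))
      (IsAlgSpace.yon_obj _) (fun i => IsAlgSpace.yon_obj _)
      ⟨fun i => (isEtaleMor_yon_map_iff _).2 (hg i), fun x => by
        obtain ⟨t, rfl⟩ := (Points.schemeEquiv _).surjective x
        obtain ⟨i, z, hz⟩ := hcov t
        exact ⟨i, mem_range_map_yon _ (t := z) (by subst hz; rfl)⟩⟩
      ((yon S).map (Over.homMk f rfl : Over.mk (f ≫ sY) ⟶ Over.mk sY)) (IsAlgSpace.yon_obj _)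
    refine key.trans (forall_congr' fun i => ?_)
    rw [← (yon S).map_comp]
    rfl
  base {X Y} sY f ι Yi Xi g q p hg hcov sq := by
    have key := h2 (fun i => (yon S).obj (Over.mk (g i ≫ sY)))
      (fun i => (yon S).map (Over.homMk (g i) rfl : Over.mk (g i ≫ sY) ⟶ Over.mk sY))
      (IsAlgSpace.yon_obj _) (fun i => IsAlgSpace.yon_obj _)
      ⟨fun i => locP_smooth_yon _ (hg i), fun x => by
        obtain ⟨t, rfl⟩ := (Points.schemeEquiv _).surjective x
        obtain ⟨i, z, hz⟩ := hcov t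
        exact ⟨i, mem_range_map_yon _ (t := z) (by subst hz; rfl)⟩⟩
      ((yon S).map (Over.homMk f rfl : Over.mk (f ≫ sY) ⟶ Over.mk sY)) (IsAlgSpace.yon_obj _)
      (fun i => (yon S).obj (Over.mk (p i ≫ g i ≫ sY)))
      (fun i => (yon S).map (Over.homMk (p i) rfl : Over.mk (p i ≫ g i ≫ sY) ⟶ Over.mk (g i ≫ sY)))
      (fun i => (yon S).map (Over.homMk (q i) (by simp [(sq i).w_assoc]) : Over.mk (p i ≫ g i ≫ sY) ⟶ Over.mk (f ≫ sY)))
      (fun i => IsAlgSpace.yon_obj _) (fun i => isPullback_yon_iff.2 (sq i))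
    exact key
  openImm {X Y Z} sZ f j hj hf := by
    have := h3 (X := ⟨(yon S).obj (Over.mk (f ≫ j ≫ sZ)), IsAlgSpace.yon_obj _⟩)
      (Y := ⟨(yon S).obj (Over.mk (j ≫ sZ)), IsAlgSpace.yon_obj _⟩)
      (Z := ⟨(yon S).obj (Over.mk sZ), IsAlgSpace.yon_obj _⟩)
      (ObjectProperty.homMk ((yon S).map (Over.homMk f rfl : Over.mk (f ≫ j ≫ sZ) ⟶ Over.mk (j ≫ sZ))))
      (ObjectProperty.homMk ((yon S).map (Over.homMk j rfl : Over.mk (j ≫ sZ) ⟶ Over.mk sZ)))
      hf ((repWith_yon_iff _).2 hj)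
    refine (schProp_iff P sZ (f ≫ j) (f ≫ j ≫ sZ) (Category.assoc _ _ _)).2 ?_
    change P ((yon S).map _ ≫ (yon S).map _) at this
    rw [← (yon S).map_comp] at this
    exact this

include h1 in
theorem precomp {X Y Z : Sp S} (hX : IsAlgSpace X) (hY : IsAlgSpace Y) (hZ : IsAlgSpace Z) (f : X ⟶ Y)
    (g : Y ⟶ Z) (hf : IsEtaleMor f) (hg : P g) : P (f ≫ g) := by
  have := (h1 (ι := ULift.{u} Bool) (fun i => cond i.down X Y)
    (fun i => match i with | ⟨true⟩ => f | ⟨false⟩ => 𝟙 Y) hY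
    (fun i => match i with | ⟨true⟩ => hX | ⟨false⟩ => hY)
    ⟨fun i => match i with | ⟨true⟩ => hf | ⟨false⟩ => EtSmLocalST.isEtaleMor_id hY,
      fun y => ⟨⟨false⟩, y, Points.map_id y⟩⟩ g hZ).1 hg ⟨true⟩
  exact this

include h2 in
theorem baseChange {X Y X' Y' : Sp S} (hX : IsAlgSpace X) (hY : IsAlgSpace Y) (hX' : IsAlgSpace X')
    (hY' : IsAlgSpace Y') (f : X ⟶ Y) (g : Y' ⟶ Y) (f' : X' ⟶ Y') (g' : X' ⟶ X)
    (sq : IsPullback g' f' f g) (hg : LocP @Smooth g) (hf : P f) : P f' := by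
  have := (h2 (ι := ULift.{u} Bool) (fun i => cond i.down Y' Y)
    (fun i => match i with | ⟨true⟩ => g | ⟨false⟩ => 𝟙 Y) hY
    (fun i => match i with | ⟨true⟩ => hY' | ⟨false⟩ => hY)
    ⟨fun i => match i with | ⟨true⟩ => hg | ⟨false⟩ => EtSmLocalST.smooth_of_etale hY (EtSmLocalST.isEtaleMor_id hY),
      fun y => ⟨⟨false⟩, y, Points.map_id y⟩⟩ f hX (fun i => cond i.down X' X)
    (fun i => match i with | ⟨true⟩ => f' | ⟨false⟩ => f)
    (fun i => match i with | ⟨true⟩ => g' | ⟨false⟩ => 𝟙 X)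
    (fun i => match i with | ⟨true⟩ => hX' | ⟨false⟩ => hX)
    (fun i => match i with | ⟨true⟩ => sq | ⟨false⟩ => IsPullback.of_id_fst)).1 hf ⟨true⟩
  exact this

include h1 h2 h3 in
theorem of_charts {X Y : Sp S} (hX : IsAlgSpace X) (hY : IsAlgSpace Y) (f : X ⟶ Y)
    (h : ∀ x : Points X, ∃ (V W U : Sp S) (b : V ⟶ Y) (p : W ⟶ X) (q : W ⟶ V) (e : U ⟶ W) (v : Points U),
      IsAlgSpace V ∧ IsAlgSpace W ∧ IsAlgSpace U ∧ LocP @Smooth b ∧ IsPullback p q f b ∧ IsEtaleMor e ∧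
      Points.map (e ≫ p) v = x ∧ P (e ≫ q)) : P f := by
  obtain ⟨Y₀, c, hce, hcs⟩ := hY.atlas
  have sqY := IsPullback.of_hasPullback f c
  have hXY := isAlgSpace_of_isPullback_space hY hX (IsAlgSpace.yon_obj Y₀) sqY
  have hcE : IsEtaleMor c := isEtaleMor_of_repWith' hce
  refine (h2 (ι := PUnit) (fun _ => (yon S).obj Y₀) (fun _ => c) hY (fun _ => IsAlgSpace.yon_obj Y₀)
    ⟨fun _ => EtSmLocalST.smooth_of_etale hY hcE, fun y => ⟨⟨⟩, isSurjectiveMor_of_repWith hcs y⟩⟩ f hX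
    (fun _ => pullback f c) (fun _ => pullback.snd f c) (fun _ => pullback.fst f c)
    (fun _ => hXY) (fun _ => sqY)).2 fun _ => ?_
  obtain ⟨X₀, a, hae, has⟩ := hXY.atlas
  refine (h1 (ι := PUnit) (fun _ => (yon S).obj X₀) (fun _ => a) hXY (fun _ => IsAlgSpace.yon_obj X₀)
    ⟨fun _ => isEtaleMor_of_repWith' hae, fun x => ⟨⟨⟩, isSurjectiveMor_of_repWith has x⟩⟩ _
    (IsAlgSpace.yon_obj Y₀)).2 fun _ => ?_
  obtain ⟨φ, hφ⟩ := exists_map_eq (a ≫ pullback.snd f c)
  rw [← hφ]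
  refine (schProp_over P φ).1 ?_
  have hQ := hyp_schProp h1 h2 h3
  refine hQ.of_local_source fun x₀ => ?_
  obtain ⟨V, W, U, b, p, q, e, v, hV, hW, hU, hb, sq, he, hv, hP⟩ :=
    h (Points.map (pullback.fst f c) (Points.ofPt a x₀))
  -- a chart of `V ×_Y Y₀`
  have sqVY := IsPullback.of_hasPullback b c
  have hVY := isAlgSpace_of_isPullback_space hY hV (IsAlgSpace.yon_obj Y₀) sqVY
  obtain ⟨V₀, r, hre, hrs⟩ := hVY.atlas
  obtain ⟨β, hβ⟩ := exists_map_eq (r ≫ pullback.snd b c)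
  have hrE : IsEtaleMor r := isEtaleMor_of_repWith' hre
  have hβl : LocP @Smooth ((yon S).map β) := by
    rw [hβ]
    exact good_smooth.comp _ _ (IsAlgSpace.yon_obj V₀) hVY (IsAlgSpace.yon_obj Y₀)
      (EtSmLocalST.smooth_of_etale hVY hrE)
      (locP_baseChange etST_smooth hV hY hVY (IsAlgSpace.yon_obj Y₀) sqVY hb)
  have : Smooth β.left := hβl (𝟙 _) (𝟙 _) β (repWith_id _ _) (repWith_id _ _) (by simp)
  obtain ⟨t, ht⟩ : ∃ t : (yon S).obj V₀ ⟶ V, t = r ≫ pullback.fst b c := ⟨_, rfl⟩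
  have htS : LocP @Smooth t := by
    rw [ht]
    exact good_smooth.comp _ _ (IsAlgSpace.yon_obj V₀) hVY hV (EtSmLocalST.smooth_of_etale hVY hrE)
      (EtSmLocalST.smooth_of_etale hV (isEtaleMor_of_repWith' (repWith_baseChange sqVY.flip hce)))
  have htb : t ≫ b = (yon S).map β ≫ c := by rw [ht, Category.assoc, sqVY.w, hβ, Category.assoc]
  -- `W ×_V V₀`
  have sqWV := IsPullback.of_hasPullback q t
  have hWV := isAlgSpace_of_isPullback_space hV hW (IsAlgSpace.yon_obj V₀) sqWV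
  have sqO : IsPullback (pullback.fst q t ≫ p) (pullback.snd q t) f ((yon S).map β ≫ c) := by
    rw [← htb]
    exact sqWV.paste_horiz sq
  let lam : pullback q t ⟶ pullback f c := sqY.lift (pullback.fst q t ≫ p) (pullback.snd q t ≫ (yon S).map β)
    (by rw [Category.assoc (pullback.snd q t)]; exact sqO.w)
  have sqL : IsPullback lam (pullback.snd q t) (pullback.snd f c) ((yon S).map β) := by
    refine IsPullback.of_right ?_ (sqY.lift_snd _ _ _) sqY
    rw [sqY.lift_fst]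
    exact sqO
  -- the scheme `X₀ ×_{Y₀} V₀`
  let W₀ : Over S := Over.mk (pullback.fst φ.left β.left ≫ X₀.hom)
  let p₀ : W₀ ⟶ X₀ := Over.homMk (pullback.fst φ.left β.left) rfl
  let q₀ : W₀ ⟶ V₀ := Over.homMk (pullback.snd φ.left β.left) (by
    change pullback.snd φ.left β.left ≫ V₀.hom = pullback.fst φ.left β.left ≫ X₀.hom
    rw [← Over.w β, ← Over.w φ, ← pullback.condition_assoc])
  have sq0 : IsPullback ((yon S).map p₀) ((yon S).map q₀) (a ≫ pullback.snd f c) ((yon S).map β) := by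
    rw [← hφ]
    exact isPullback_yon_iff.2 (IsPullback.of_hasPullback φ.left β.left)
  let k : (yon S).obj W₀ ⟶ pullback q t := sqL.lift ((yon S).map p₀ ≫ a) ((yon S).map q₀)
    (by rw [Category.assoc]; exact sq0.w)
  have sqk : IsPullback k ((yon S).map p₀) lam a := by
    refine (IsPullback.of_bot ?_ (sqL.lift_fst _ _ _).symm sqL).flip
    rw [sqL.lift_snd]
    exact sq0
  -- a point of `W ×_V V₀` over the given ones
  obtain ⟨π, hπW, hπX⟩ : ∃ π : Points (pullback q t),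
      Points.map (pullback.fst q t) π = Points.map e v ∧ Points.map lam π = Points.ofPt a x₀ := by
    have sqX := IsPullback.of_hasPullback p (pullback.fst f c)
    obtain ⟨ζ, hζ₁, hζ₂⟩ := exists_point_of_isPullback sqX (Points.map e v) (Points.ofPt a x₀)
      (by rw [← Points.map_comp]; exact hv)
    obtain ⟨T, g, t₀, rfl⟩ := exists_ofPt ζ
    rw [Points.map_ofPt] at hζ₁ hζ₂
    let g₁ := g ≫ pullback.fst p (pullback.fst f c)
    let g₂ := g ≫ pullback.snd p (pullback.fst f c)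
    have hg12 : g₁ ≫ p = g₂ ≫ pullback.fst f c := by
      simp only [g₁, g₂, Category.assoc, pullback.condition]
    obtain ⟨ξ, hξ₁, hξ₂⟩ : ∃ ξ : (yon S).obj T ⟶ pullback b c,
        ξ ≫ pullback.fst b c = g₁ ≫ q ∧ ξ ≫ pullback.snd b c = g₂ ≫ pullback.snd f c :=
      ⟨pullback.lift (g₁ ≫ q) (g₂ ≫ pullback.snd f c) (by
        rw [Category.assoc g₁, ← sq.w, reassoc_of% hg12, Category.assoc g₂, ← sqY.w]),
        pullback.lift_fst _ _ _, pullback.lift_snd _ _ _⟩
    obtain ⟨T₁, fst₁, snd₁, sqT, hs₁⟩ := exists_repWith hrs ξ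
    have : Surjective snd₁.left := hs₁
    obtain ⟨t₁, ht₁⟩ := snd₁.left.surjective t₀
    obtain ⟨ψ, hψ₁, hψ₂⟩ : ∃ ψ : (yon S).obj T₁ ⟶ pullback q t,
        ψ ≫ pullback.fst q t = (yon S).map snd₁ ≫ g₁ ∧ ψ ≫ pullback.snd q t = fst₁ :=
      ⟨sqWV.lift ((yon S).map snd₁ ≫ g₁) fst₁ (by
        rw [ht, ← Category.assoc fst₁, sqT.w]; simp only [g₁, Category.assoc] at hξ₁ ⊢; rw [hξ₁]),
        sqWV.lift_fst _ _ _, sqWV.lift_snd _ _ _⟩
    refine ⟨Points.ofPt ψ t₁, ?_, ?_⟩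
    · rw [Points.map_ofPt, hψ₁, ofPt_comp, ht₁]
      exact hζ₁
    · rw [Points.map_ofPt]
      have : ψ ≫ lam = (yon S).map snd₁ ≫ g₂ := by
        apply sqY.hom_ext
        · simp only [lam, Category.assoc, sqY.lift_fst, reassoc_of% hψ₁, hg12]
        · simp only [lam, Category.assoc, sqY.lift_snd, reassoc_of% hψ₂, hβ]
          rw [← Category.assoc fst₁, sqT.w, Category.assoc, hξ₂]
      rw [this, ofPt_comp, ht₁]
      exact hζ₂
  -- `U ×_V V₀`
  have sqT := IsPullback.of_hasPullback e (pullback.fst q t)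
  have hT := isAlgSpace_of_isPullback_space hW hU hWV sqT
  have heT : IsEtaleMor (pullback.snd e (pullback.fst q t)) :=
    good_etale.baseChange _ _ e (pullback.fst q t) hT hU hWV hW sqT he
  have hPT : P (pullback.snd e (pullback.fst q t) ≫ pullback.snd q t) :=
    baseChange h2 hU hV hT (IsAlgSpace.yon_obj V₀) _ t _ _ (sqT.paste_vert sqWV) htS hP
  obtain ⟨w, hw₁, hw₂⟩ := exists_point_of_isPullback sqk π (Points.ofPt (𝟙 _) x₀)
    (by rw [Points.map_ofPt, Category.id_comp]; exact hπX)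
  obtain ⟨τ, -, hτ⟩ := exists_point_of_isPullback sqT v π hπW.symm
  have sqU := IsPullback.of_hasPullback (pullback.snd e (pullback.fst q t)) k
  have hU' := isAlgSpace_of_isPullback_space hWV hT (IsAlgSpace.yon_obj W₀) sqU
  have hkE : IsEtaleMor k := isEtaleMor_of_repWith' (repWith_baseChange sqk.flip hae)
  obtain ⟨ζ', -, hζ'⟩ := exists_point_of_isPullback sqU τ w (by rw [hτ, hw₁])
  obtain ⟨U₀, r', hr'e, hr's⟩ := hU'.atlas
  obtain ⟨u₀, rfl⟩ := ofPt_surjective hr's ζ'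
  obtain ⟨e₀, he₀⟩ := exists_map_eq (r' ≫ pullback.snd _ k)
  have he₀E : IsEtaleMor ((yon S).map e₀) := by
    rw [he₀]
    exact good_etale.comp _ _ (IsAlgSpace.yon_obj U₀) hU' (IsAlgSpace.yon_obj W₀) (isEtaleMor_of_repWith' hr'e)
      (good_etale.baseChange _ _ _ _ hU' hT (IsAlgSpace.yon_obj W₀) hWV sqU heT)
  have : Etale e₀.left := (isEtaleMor_yon_map_iff e₀).1 he₀E
  have hPU : P ((yon S).map (e₀ ≫ q₀)) := by
    have : (yon S).map (e₀ ≫ q₀) = (r' ≫ pullback.fst _ k) ≫ pullback.snd e (pullback.fst q t) ≫ pullback.snd q t := by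
      rw [Functor.map_comp, he₀, Category.assoc, Category.assoc, sqU.w_assoc, sqL.lift_snd]
    rw [this]
    refine precomp h1 (IsAlgSpace.yon_obj U₀) hT (IsAlgSpace.yon_obj V₀) _ _ ?_ hPT
    exact good_etale.comp _ _ (IsAlgSpace.yon_obj U₀) hU' hT (isEtaleMor_of_repWith' hr'e)
      (good_etale.baseChange _ _ k (pullback.snd e (pullback.fst q t)) hU' (IsAlgSpace.yon_obj W₀) hT hWV
        sqU.flip hkE)
  replace hPU := (schProp_over P (e₀ ≫ q₀)).2 hPU
  rw [← Over.w β] at hPU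
  obtain ⟨X', g, hg, hx, hQg⟩ := exists_etale_of_etale_smooth hQ (sY := Y₀.hom)
    (IsPullback.of_hasPullback φ.left β.left) (e := e₀.left) hPU u₀
  refine ⟨X', g, hg, ?_, hQg⟩
  suffices pullback.fst φ.left β.left (e₀.left u₀) = x₀ from this ▸ hx
  apply (Points.schemeEquiv X₀).injective
  change Points.ofScheme X₀ (p₀.left (e₀.left u₀)) = Points.ofScheme X₀ x₀
  rw [← Scheme.Hom.comp_apply, ← Over.comp_left, ← ofScheme_map, Functor.map_comp, he₀]
  rw [Points.map_ofPt] at hζ'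
  rw [← Points.map_ofPt, hζ', hw₂]

include h1 h2 h3 in
/-- etale local on the source, smooth local on the base and stable under postcomposition with open immersions
gives etale-smooth locality on source and target -/
theorem isEtaleSmoothLocalST : IsEtaleSmoothLocalST P where
  precomp _ _ _ hX hY hZ f g hf hg := precomp h1 hX hY hZ f g hf hg
  baseChange _ _ _ _ hX hY hX' hY' f g f' g' sq hg hf := baseChange h2 hX hY hX' hY' f g f' g' sq hg hf
  locality X Y hX hY f := ⟨fun hf x => ⟨Y, X, X, 𝟙 Y, 𝟙 X, f, 𝟙 X, x, hY, hX, hX,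
    EtSmLocalST.smooth_of_etale hY (EtSmLocalST.isEtaleMor_id hY), IsPullback.of_id_fst,
    EtSmLocalST.isEtaleMor_id hX, by rw [Category.id_comp, Points.map_id],
    by rwa [Category.id_comp]⟩, of_charts h1 h2 h3 hX hY f⟩

end Groth.Agent.EtSmDescent
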