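import Mathlib.AlgebraicGeometry.Morphisms.Etale
import Mathlib.AlgebraicGeometry.Morphisms.Smooth
import Mathlib.AlgebraicGeometry.Morphisms.Separated
import Mathlib.AlgebraicGeometry.Morphisms.Affine
import Mathlib.AlgebraicGeometry.Morphisms.Flat
import Mathlib.AlgebraicGeometry.Morphisms.UniversallyOpen
import Mathlib.AlgebraicGeometry.PullbackCarrier
import Mathlib.RingTheory.Unramified.LocalStructure

/-!
# Properties etale local on the source and smooth local on the base: postcomposition with etale morphisms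
-/

universe u

open CategoryTheory CategoryTheory.Limits AlgebraicGeometry

namespace Groth.Agent.EtSmDescent

/-- An abstract property of morphisms of schemes over a base: `Q sY f` is the property of the morphism `f` into the
base scheme `(Y, sY)`; it is local on the source for etale covers, local on the base for smooth covers and stable under
postcomposition with open immersions. -/
structure Hyp {S : Scheme.{u}} (Q : ∀ {X Y : Scheme.{u}}, (Y ⟶ S) → (X ⟶ Y) → Prop) : Prop where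
  src : ∀ {X Y : Scheme.{u}} (sY : Y ⟶ S) (f : X ⟶ Y) {ι : Type u} (Xi : ι → Scheme.{u})
    (g : ∀ i, Xi i ⟶ X), (∀ i, Etale (g i)) → (∀ x, ∃ i y, g i y = x) →
    (Q sY f ↔ ∀ i, Q sY (g i ≫ f))
  base : ∀ {X Y : Scheme.{u}} (sY : Y ⟶ S) (f : X ⟶ Y) {ι : Type u} (Yi Xi : ι → Scheme.{u})
    (g : ∀ i, Yi i ⟶ Y) (q : ∀ i, Xi i ⟶ X) (p : ∀ i, Xi i ⟶ Yi i), (∀ i, Smooth (g i)) →
    (∀ y, ∃ i z, g i z = y) → (∀ i, IsPullback (q i) (p i) f (g i)) →
    (Q sY f ↔ ∀ i, Q (g i ≫ sY) (p i))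
  openImm : ∀ {X Y Z : Scheme.{u}} (sZ : Z ⟶ S) (f : X ⟶ Y) (j : Y ⟶ Z), IsOpenImmersion j →
    Q (j ≫ sZ) f → Q sZ (f ≫ j)

variable {S : Scheme.{u}} {Q : ∀ {X Y : Scheme.{u}}, (Y ⟶ S) → (X ⟶ Y) → Prop} (hQ : Hyp Q)
include hQ

theorem Hyp.precomp {X' X Y : Scheme.{u}} {sY : Y ⟶ S} {f : X ⟶ Y} (h : Q sY f) (g : X' ⟶ X) [Etale g] :
    Q sY (g ≫ f) := by
  have := (hQ.src sY f (ι := ULift.{u} Bool) (fun i => cond i.down X' X)
    (fun i => match i with | ⟨true⟩ => g | ⟨false⟩ => 𝟙 X)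
    (fun i => match i with | ⟨true⟩ => ‹Etale g› | ⟨false⟩ => inferInstanceAs (Etale (𝟙 X)))
    (fun x => ⟨⟨false⟩, x, rfl⟩)).1 h ⟨true⟩
  exact this

theorem Hyp.baseChange {X Y X' Y' : Scheme.{u}} {sY : Y ⟶ S} {f : X ⟶ Y} (h : Q sY f) {g : Y' ⟶ Y}
    [Smooth g] {g' : X' ⟶ X} {f' : X' ⟶ Y'} (sq : IsPullback g' f' f g) : Q (g ≫ sY) f' := by
  have := (hQ.base sY f (ι := ULift.{u} Bool) (fun i => cond i.down Y' Y) (fun i => cond i.down X' X)
    (fun i => match i with | ⟨true⟩ => g | ⟨false⟩ => 𝟙 Y)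
    (fun i => match i with | ⟨true⟩ => g' | ⟨false⟩ => 𝟙 X)
    (fun i => match i with | ⟨true⟩ => f' | ⟨false⟩ => f)
    (fun i => match i with | ⟨true⟩ => ‹Smooth g› | ⟨false⟩ => inferInstanceAs (Smooth (𝟙 Y)))
    (fun y => ⟨⟨false⟩, y, rfl⟩)
    (fun i => match i with | ⟨true⟩ => sq | ⟨false⟩ => IsPullback.of_id_fst)).1 h ⟨true⟩
  exact this

theorem Hyp.of_local_source {X Y : Scheme.{u}} {sY : Y ⟶ S} {f : X ⟶ Y}
    (h : ∀ x : X, ∃ (X' : Scheme.{u}) (g : X' ⟶ X), Etale g ∧ x ∈ Set.range g ∧ Q sY (g ≫ f)) : Q sY f := by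
  choose X' g hg hx hf using h
  exact (hQ.src sY f (ι := X) X' g hg (fun x => ⟨x, hx x⟩)).2 hf

theorem Hyp.of_surjective {X Y Y' X' : Scheme.{u}} {sY : Y ⟶ S} {f : X ⟶ Y} {g : Y' ⟶ Y} [Smooth g]
    [Surjective g] {g' : X' ⟶ X} {f' : X' ⟶ Y'} (sq : IsPullback g' f' f g) (h : Q (g ≫ sY) f') : Q sY f :=
  (hQ.base sY f (ι := PUnit) (fun _ => Y') (fun _ => X') (fun _ => g) (fun _ => g') (fun _ => f')
    (fun _ => ‹_›) (fun y => ⟨⟨⟩, g.surjective y⟩) (fun _ => sq)).2 fun _ => h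

/-- A bound on the number of lifts of field-valued points. -/
def LiftBound (d : ℕ) {V B : Scheme.{u}} (e : V ⟶ B) : Prop :=
  ∀ (K : Type u) [Field K] (b : Spec (CommRingCat.of K) ⟶ B)
    (s : Fin (d + 1) → (Spec (CommRingCat.of K) ⟶ V)), (∀ i, s i ≫ e = b) → ¬ Function.Injective s

omit hQ in
theorem liftBound_restrict {d : ℕ} {V B B₀ : Scheme.{u}} {e₀ : V ⟶ B₀} {j : B₀ ⟶ B}
    (h : LiftBound d (e₀ ≫ j)) : LiftBound d e₀ := fun K _ b s hs =>
  h K (b ≫ j) s fun i => by rw [reassoc_of% hs i]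

omit hQ in
theorem liftBound_rest {d : ℕ} {V B : Scheme.{u}} {e : V ⟶ B} {R : (pullback e e).Opens}
    (hR : ∀ z ∈ R, z ∉ Set.range (pullback.diagonal e)) (h : LiftBound (d + 1) e) :
    LiftBound d (R.ι ≫ pullback.snd e e) := by
  intro K _ b s hs hinj
  refine h K (b ≫ e) (Fin.cons b fun i => s i ≫ R.ι ≫ pullback.fst e e) (fun i => ?_) ?_
  · induction i using Fin.cases with
    | zero => rfl
    | succ i =>
      rw [Fin.cons_succ, Category.assoc, Category.assoc, pullback.condition, ← hs i, Category.assoc,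
        Category.assoc]
  · have key : ∀ i, b ≠ s i ≫ R.ι ≫ pullback.fst e e := fun i he => by
      have : s i ≫ R.ι = b ≫ pullback.diagonal e := by
        apply pullback.hom_ext
        · rw [Category.assoc, Category.assoc, pullback.diagonal_fst, Category.comp_id]
          exact he.symm
        · rw [Category.assoc, Category.assoc, pullback.diagonal_snd, Category.comp_id, hs i]
      let pt : Spec (CommRingCat.of K) := IsLocalRing.closedPoint K
      exact hR _ (s i pt).2 ⟨b pt, congrArg (fun k : Spec (CommRingCat.of K) ⟶ pullback e e => k pt) this.symm⟩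
    rw [Fin.cons_injective_iff]
    refine ⟨fun ⟨i, hi⟩ => key i hi.symm, fun i j hij => hinj ?_⟩
    apply (cancel_mono R.ι).1
    apply pullback.hom_ext
    · simpa only [Category.assoc] using hij
    · simp only [Category.assoc, hs]

theorem postcomp_bounded (d : ℕ) : ∀ {W V B : Scheme.{u}} {sB : B ⟶ S} (f : W ⟶ V) (e : V ⟶ B)
    [Etale e] [IsSeparated e], LiftBound d e → Q (e ≫ sB) f → Q sB (f ≫ e) := by
  induction d with
  | zero =>
    intro W V B sB f e _ _ hd hf
    have : IsEmpty V := ⟨fun v => hd (V.residueField v) (V.fromSpecResidueField v ≫ e)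
      (fun _ => V.fromSpecResidueField v) (fun _ => rfl) (fun a b _ => Fin.ext (by omega))⟩
    exact hQ.openImm sB f e inferInstance hf
  | succ d ih =>
    intro W V B sB f e _ _ hd hf
    obtain ⟨B₀, e₀, hs, rfl⟩ : ∃ (B₀ : B.Opens) (e₀ : V ⟶ B₀), Surjective e₀ ∧ e₀ ≫ B₀.ι = e := by
      let O : B.Opens := ⟨Set.range e, e.isOpenMap.isOpen_range⟩
      have hO : Set.range e ⊆ Set.range O.ι := by rw [Scheme.Opens.range_ι]; rfl
      refine ⟨O, IsOpenImmersion.lift O.ι e hO, ⟨fun b => ?_⟩, IsOpenImmersion.lift_fac _ _ _⟩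
      obtain ⟨v, hv⟩ := b.2
      refine ⟨v, O.ι.isOpenEmbedding.injective ?_⟩
      rw [← Scheme.Hom.comp_apply, IsOpenImmersion.lift_fac]
      exact hv
    have : Etale e₀ := MorphismProperty.of_postcomp (W := @Etale) (W' := @Etale) e₀ B₀.ι inferInstance ‹_›
    have : IsSeparated e₀ := IsSeparated.of_comp e₀ B₀.ι
    rw [Category.assoc] at hf
    rw [← Category.assoc]
    refine hQ.openImm sB _ B₀.ι inferInstance ?_
    replace hd := liftBound_restrict hd
    generalize B₀.ι ≫ sB = sB₀ at hf ⊢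
    refine hQ.of_surjective (g := e₀) (IsPullback.of_hasPullback (f ≫ e₀) e₀) ?_
    let f'' : pullback (f ≫ e₀) e₀ ⟶ pullback e₀ e₀ :=
      pullback.lift (pullback.fst _ _ ≫ f) (pullback.snd _ _) (by rw [Category.assoc]; exact pullback.condition)
    have sq : IsPullback (pullback.fst (f ≫ e₀) e₀) f'' f (pullback.fst e₀ e₀) := by
      refine IsPullback.of_bot ?_ (pullback.lift_fst _ _ _).symm (IsPullback.of_hasPullback e₀ e₀)
      rw [pullback.lift_snd]
      exact IsPullback.of_hasPullback _ _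
    have hf'' : Q (pullback.fst e₀ e₀ ≫ e₀ ≫ sB₀) f'' := hQ.baseChange hf sq
    rw [show pullback.snd (f ≫ e₀) e₀ = f'' ≫ pullback.snd e₀ e₀ from (pullback.lift_snd _ _ _).symm]
    rw [← Category.assoc, pullback.condition, Category.assoc] at hf''
    let Dg := (pullback.diagonal e₀).opensRange
    refine hQ.of_local_source fun w => ?_
    by_cases hw : f'' w ∈ Dg
    · have sqD := IsPullback.of_hasPullback f'' (pullback.diagonal e₀)
      obtain ⟨v, hv⟩ := hw
      obtain ⟨z, hz, -⟩ := Scheme.Pullback.exists_preimage_pullback (f := f'') (g := pullback.diagonal e₀) w v hv.symm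
      refine ⟨_, pullback.fst f'' (pullback.diagonal e₀), inferInstance, ⟨z, hz⟩, ?_⟩
      rw [sqD.w_assoc, pullback.diagonal_snd, Category.comp_id]
      have := hQ.baseChange hf'' sqD
      rwa [pullback.diagonal_snd_assoc] at this
    · have hcl : IsClosed (Set.range (pullback.diagonal e₀)) :=
        (IsClosedImmersion.base_closed (f := pullback.diagonal e₀)).isClosed_range
      let R : (pullback e₀ e₀).Opens := ⟨(Set.range (pullback.diagonal e₀))ᶜ, hcl.isOpen_compl⟩
      have sqR := IsPullback.of_hasPullback f'' R.ι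
      have hw' : f'' w ∈ R := hw
      obtain ⟨z, hz, -⟩ := Scheme.Pullback.exists_preimage_pullback (f := f'') (g := R.ι) w ⟨_, hw'⟩ rfl
      refine ⟨_, pullback.fst f'' R.ι, inferInstance, ⟨z, hz⟩, ?_⟩
      rw [sqR.w_assoc]
      refine ih _ _ (liftBound_rest (fun z hz => hz) hd) ?_
      have := hQ.baseChange hf'' sqR
      rwa [Category.assoc]

omit hQ in
/-- standard etale algebras bound the number of lifts -/
theorem liftBound_spec {A C : Type u} [CommRing A] [CommRing C] [Algebra A C] [Algebra.IsStandardEtale A C] :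
    ∃ d, LiftBound d (Spec.map (CommRingCat.ofHom (algebraMap A C))) := by
  obtain ⟨P⟩ := Algebra.IsStandardEtale.nonempty_standardEtalePresentation (R := A) (S := C)
  refine ⟨P.P.f.natDegree, fun K _ b s hs hinj => ?_⟩
  classical
  obtain ⟨φ, rfl⟩ := Spec.map_surjective b
  let : Algebra A K := φ.hom.toAlgebra
  choose ψ hψ using fun i => Spec.map_surjective (s i)
  have hψA : ∀ i, CommRingCat.ofHom (algebraMap A C) ≫ ψ i = φ := fun i =>
    Spec.map_injective (by rw [Spec.map_comp, hψ i]; exact hs i)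
  let χ : Fin _ → (C →ₐ[A] K) := fun i =>
    ⟨(ψ i).hom, fun a => congrArg (fun k : CommRingCat.of A ⟶ CommRingCat.of K => k.hom a) (hψA i)⟩
  have hχ : Function.Injective fun i => χ i P.x := fun i j hij => hinj (by
    rw [← hψ i, ← hψ j]
    congr 1
    ext c
    exact DFunLike.congr_fun (P.hom_ext hij) c)
  let F := P.P.f.map (algebraMap A K)
  have hne : F ≠ 0 := (P.P.monic_f.map _).ne_zero
  have hroot : ∀ i, χ i P.x ∈ F.roots.toFinset := fun i => by
    rw [Multiset.mem_toFinset, Polynomial.mem_roots hne, Polynomial.IsRoot, Polynomial.eval_map,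
      ← Polynomial.aeval_def, Polynomial.aeval_algHom_apply, P.hasMap.1, map_zero]
  have h1 := Finset.card_le_card (show Finset.univ.image (fun i => χ i P.x) ⊆ F.roots.toFinset from fun x hx => by
    obtain ⟨i, -, rfl⟩ := Finset.mem_image.1 hx
    exact hroot i)
  rw [Finset.card_image_of_injective _ hχ, Finset.card_univ, Fintype.card_fin] at h1
  have h2 := (Multiset.toFinset_card_le F.roots).trans (F.card_roots')
  rw [P.P.monic_f.natDegree_map] at h2
  omega

omit hQ in
theorem exists_bounded_nhd {V B : Scheme.{u}} (e : V ⟶ B) [Etale e] (v : V) :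
    ∃ (V' B' : Scheme.{u}) (iV : V' ⟶ V) (iB : B' ⟶ B) (e' : V' ⟶ B') (d : ℕ), IsOpenImmersion iV ∧
      IsOpenImmersion iB ∧ v ∈ Set.range iV ∧ iV ≫ e = e' ≫ iB ∧ Etale e' ∧ IsSeparated e' ∧ LiftBound d e' := by
  obtain ⟨B₀, hB₀, hv₀, -⟩ := exists_isAffineOpen_mem_and_subset (X := B) (x := e v) (U := ⊤) trivial
  obtain ⟨V₀, hV₀, hvV, eV⟩ := exists_isAffineOpen_mem_and_subset (X := V) (x := v) (U := e ⁻¹ᵁ B₀) hv₀
  let φ := e.appLE B₀ V₀ eV
  let : Algebra Γ(B, B₀) Γ(V, V₀) := φ.hom.toAlgebra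
  have : Algebra.Etale Γ(B, B₀) Γ(V, V₀) :=
    RingHom.etale_algebraMap.1 (HasRingHomProperty.appLE @Etale e ‹_› ⟨B₀, hB₀⟩ ⟨V₀, hV₀⟩ eV)
  obtain ⟨t, ht, hstd⟩ := Algebra.IsEtaleAt.exists_isStandardEtale (R := Γ(B, B₀)) (hV₀.primeIdealOf ⟨v, hvV⟩).asIdeal
  obtain ⟨d, hd⟩ := liftBound_spec (A := Γ(B, B₀)) (C := Localization.Away t)
  let loc := Spec.map (CommRingCat.ofHom (algebraMap Γ(V, V₀) (Localization.Away t)))
  refine ⟨Spec (CommRingCat.of (Localization.Away t)), Spec Γ(B, B₀), loc ≫ hV₀.fromSpec, hB₀.fromSpec,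
    Spec.map (CommRingCat.ofHom (algebraMap Γ(B, B₀) (Localization.Away t))), d, inferInstance, inferInstance,
    ?_, ?_, ?_, inferInstance, hd⟩
  · refine ⟨⟨(hV₀.primeIdealOf ⟨v, hvV⟩).asIdeal.map (algebraMap _ (Localization.Away t)), ?_⟩, ?_⟩
    · exact IsLocalization.isPrime_of_isPrime_disjoint (.powers t) _ _ inferInstance
        ((Ideal.disjoint_powers_iff_notMem_of_isPrime _).mpr ht)
    · rw [Scheme.Hom.comp_apply]
      refine (congrArg hV₀.fromSpec ?_).trans (hV₀.fromSpec_primeIdealOf ⟨v, hvV⟩)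
      exact PrimeSpectrum.ext (IsLocalization.comap_map_of_isPrime_disjoint (.powers t) _ inferInstance
        ((Ideal.disjoint_powers_iff_notMem_of_isPrime _).mpr ht))
  · rw [Category.assoc, ← hB₀.SpecMap_appLE_fromSpec e hV₀ eV, ← Category.assoc]
    congr 1
    rw [← Spec.map_comp]
    rfl
  · rw [HasRingHomProperty.Spec_iff (P := @Etale)]
    exact RingHom.etale_algebraMap.2 inferInstance

/-- Stability under postcomposition with etale morphisms. -/
theorem Hyp.postcomp_etale {W V B : Scheme.{u}} {sB : B ⟶ S} (f : W ⟶ V) (e : V ⟶ B) [Etale e]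
    (hf : Q (e ≫ sB) f) : Q sB (f ≫ e) := by
  refine hQ.of_local_source fun w => ?_
  obtain ⟨V', B', iV, iB, e', d, _, _, ⟨v', hv'⟩, comm, _, _, hd⟩ := exists_bounded_nhd e (f w)
  have sq := IsPullback.of_hasPullback f iV
  obtain ⟨z, hz, -⟩ := Scheme.Pullback.exists_preimage_pullback (f := f) (g := iV) w v' hv'.symm
  refine ⟨_, pullback.fst f iV, inferInstance, ⟨z, hz⟩, ?_⟩
  rw [sq.w_assoc, comm, ← Category.assoc]
  refine hQ.openImm sB _ iB ‹_› (postcomp_bounded hQ d _ e' hd ?_)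
  have := hQ.baseChange hf sq
  rwa [reassoc_of% comm] at this

end Groth.Agent.EtSmDescent
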